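import Groth.Agent.DeRhamLib.Gen

/-!
Exterior powers commute with base change; the de Rham complex commutes with base change.
-/

set_option autoImplicit false

universe u

open exteriorPower TensorProduct

namespace Groth.Agent.DeRhamLib

section Ext

variable {A B M N : Type u} [CommRing A] [CommRing B] [Algebra A B] [AddCommGroup M] [Module A M]
  [AddCommGroup N] [Module B N] [Module A N] [IsScalarTower A B N]

/-- The map of exterior powers along a semilinear map. -/
noncomputable def extMap (B : Type u) [CommRing B] [Algebra A B] [Module B N] [IsScalarTower A B N]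
    (f : M →ₗ[A] N) (p : ℕ) : ↥(⋀[A]^p M) →ₗ[A] ↥(⋀[B]^p N) :=
  alternatingMapLinearEquiv
    { toFun := fun v => ιMulti B p (f ∘ v)
      map_update_add' := fun v i x y => by simp [Function.comp_update]
      map_update_smul' := fun v i c x => by
        simp only [Function.comp_update, map_smul]
        rw [← algebraMap_smul B c (f x), AlternatingMap.map_update_smul, algebraMap_smul]
      map_eq_zero_of_eq' := fun v i j h hij => (ιMulti B p).map_eq_zero_of_eq _ (congrArg f h) hij }

theorem extMap_ιMulti (f : M →ₗ[A] N) (p : ℕ) (v : Fin p → M) :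
    extMap B f p (ιMulti A p v) = ιMulti B p (f ∘ v) :=
  alternatingMapLinearEquiv_apply_ιMulti _ v

theorem isBaseChange_extMap {f : M →ₗ[A] N} (hf : IsBaseChange B f) (p : ℕ) :
    IsBaseChange B (extMap B f p) := by
  classical
  let E := ExteriorAlgebra A M
  let L : N →ₗ[B] B ⊗[A] E :=
    hf.lift ((TensorProduct.mk A B E 1).comp (ExteriorAlgebra.ι A))
  have hL : ∀ m, L (f m) = (1 : B) ⊗ₜ[A] ExteriorAlgebra.ι A m := fun m => hf.lift_eq _ m
  have hanti : ∀ x y, L x * L y + L y * L x = 0 := by
    intro x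
    refine hf.inductionOn x (fun x => ∀ y, L x * L y + L y * L x = 0) ?_ ?_ ?_ ?_
    · intro y; simp
    · intro m y
      refine hf.inductionOn y (fun y => L (f m) * L y + L y * L (f m) = 0) ?_ ?_ ?_ ?_
      · simp
      · intro m'
        rw [hL, hL, Algebra.TensorProduct.tmul_mul_tmul, Algebra.TensorProduct.tmul_mul_tmul, ← TensorProduct.tmul_add,
          ExteriorAlgebra.ι_add_mul_swap, TensorProduct.tmul_zero]
      · intro s n h
        rw [map_smul, mul_smul_comm, smul_mul_assoc, ← smul_add, h, smul_zero]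
      · intro a b ha hb
        rw [map_add, mul_add, add_mul, add_add_add_comm, ha, hb, add_zero]
    · intro s n h y
      rw [map_smul, mul_smul_comm, smul_mul_assoc, ← smul_add, h y, smul_zero]
    · intro a b ha hb y
      rw [map_add, mul_add, add_mul, add_add_add_comm, ha y, hb y, add_zero]
  have hsq : ∀ x, L x * L x = 0 := by
    intro x
    refine hf.inductionOn x (fun x => L x * L x = 0) ?_ ?_ ?_ ?_
    · simp
    · intro m
      rw [hL, Algebra.TensorProduct.tmul_mul_tmul, ExteriorAlgebra.ι_sq_zero, TensorProduct.tmul_zero]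
    · intro s n h
      rw [map_smul, mul_smul_comm, smul_mul_assoc, h, smul_zero, smul_zero]
    · intro a b ha hb
      rw [map_add, mul_add, add_mul, add_mul, ha, hb, zero_add, add_zero, add_comm, hanti]
  let Ψ : ExteriorAlgebra B N →ₐ[B] B ⊗[A] E := ExteriorAlgebra.lift B ⟨L, hsq⟩
  let Φ : B ⊗[A] ↥(⋀[A]^p M) →ₗ[B] ↥(⋀[B]^p N) := (extMap B f p).liftBaseChange B
  have hΦ : ∀ z, Ψ (Φ z : ExteriorAlgebra B N) = LinearMap.lTensor B (⋀[A]^p M).subtype z := by
    have hgen : ∀ y, Ψ (extMap B f p y : ExteriorAlgebra B N) = (1 : B) ⊗ₜ[A] (y : E) := by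
      let P : Submodule A ↥(⋀[A]^p M) :=
        { carrier := {y | Ψ (extMap B f p y : ExteriorAlgebra B N) = (1 : B) ⊗ₜ[A] (y : E)}
          add_mem' := fun {a b} ha hb => by
            show Ψ _ = _
            rw [map_add, Submodule.coe_add, map_add, ha, hb, Submodule.coe_add, TensorProduct.tmul_add]
          zero_mem' := by simp
          smul_mem' := fun c a ha => by
            show Ψ _ = _
            rw [map_smul, Submodule.coe_smul, TensorProduct.tmul_smul, ← ha,
              ← algebraMap_smul B c (extMap B f p a), Submodule.coe_smul, map_smul, algebraMap_smul] }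
      intro y
      suffices h : (⊤ : Submodule A ↥(⋀[A]^p M)) ≤ P from h trivial
      rw [← ιMulti_span, Submodule.span_le]
      rintro _ ⟨v, rfl⟩
      show Ψ _ = _
      rw [extMap_ιMulti, ιMulti_apply_coe, ιMulti_apply_coe, ExteriorAlgebra.ιMulti_apply,
        ExteriorAlgebra.ιMulti_apply, map_list_prod, List.map_ofFn]
      rw [show (1 : B) ⊗ₜ[A] (List.ofFn fun i => ExteriorAlgebra.ι A (v i)).prod =
        Algebra.TensorProduct.includeRight (List.ofFn fun i => ExteriorAlgebra.ι A (v i)).prod from rfl,
        map_list_prod, List.map_ofFn]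
      congr 2
      funext i
      show Ψ (ExteriorAlgebra.ι B (f (v i))) = _
      rw [ExteriorAlgebra.lift_ι_apply, hL]
      rfl
    intro z
    induction z with
    | zero => simp
    | add a b ha hb => rw [map_add, map_add, Submodule.coe_add, map_add, ha, hb]
    | tmul s y =>
      rw [LinearMap.lTensor_tmul, LinearMap.liftBaseChange_tmul, Submodule.coe_smul, map_smul, hgen,
        TensorProduct.smul_tmul', smul_eq_mul, mul_one]
      rfl
  have hret : Function.Injective (LinearMap.lTensor B (⋀[A]^p M).subtype) := by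
    let pr : E →ₗ[A] ↥(⋀[A]^p M) :=
      (DirectSum.component A ℕ (fun i => ↥(⋀[A]^i M)) p).comp
        (DirectSum.decomposeLinearEquiv fun i : ℕ => ⋀[A]^i M).toLinearMap
    refine Function.HasLeftInverse.injective ⟨LinearMap.lTensor B pr, fun z => ?_⟩
    have : pr.comp (⋀[A]^p M).subtype = LinearMap.id := LinearMap.ext fun y => by
      show (DirectSum.decompose (fun i : ℕ => ⋀[A]^i M) (y : E)) p = y
      rw [DirectSum.decompose_coe, DirectSum.of_eq_same]
    rw [← LinearMap.comp_apply, ← LinearMap.lTensor_comp, this, LinearMap.lTensor_id, LinearMap.id_apply]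
  have hinj : Function.Injective Φ := fun a b h => hret (by rw [← hΦ, ← hΦ, h])
  have hsurj : Function.Surjective Φ := by
    rw [← LinearMap.range_eq_top, eq_top_iff,
      ← ιMulti_span_of_span B p (M := N) (s := Set.range f) (by
        rw [eq_top_iff]
        intro x _
        exact hf.inductionOn x (fun x => x ∈ Submodule.span B (Set.range f)) (zero_mem _)
          (fun m => Submodule.subset_span ⟨m, rfl⟩) (fun s n h => Submodule.smul_mem _ s h)
          (fun a b => add_mem)),
      Submodule.span_le]
    rintro _ ⟨w, hw, rfl⟩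
    choose v hv using fun i => hw ⟨i, rfl⟩
    refine ⟨1 ⊗ₜ ιMulti A p v, ?_⟩
    rw [LinearMap.liftBaseChange_tmul, one_smul, extMap_ιMulti]
    exact congrArg (ιMulti B p) (funext hv)
  exact IsBaseChange.of_equiv (LinearEquiv.ofBijective Φ ⟨hinj, hsurj⟩) fun y => by
    show Φ _ = _
    rw [LinearMap.liftBaseChange_tmul, one_smul]

end Ext

section DR

variable (R S A B : Type u) [CommRing R] [CommRing S] [CommRing A] [CommRing B]
    [Algebra R S] [Algebra R A] [Algebra R B] [Algebra A B] [Algebra S B]
    [IsScalarTower R A B] [IsScalarTower R S B] [Algebra.IsPushout R S A B]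

theorem isBaseChange_kaehlerMap : IsBaseChange B (KaehlerDifferential.map R S A B) :=
  IsBaseChange.of_equiv (KaehlerDifferential.tensorKaehlerEquiv R S A B) fun x => by
    have hx : x ∈ Submodule.span A (Set.range (KaehlerDifferential.D R A)) := by
      rw [KaehlerDifferential.span_range_derivation]; trivial
    induction hx using Submodule.span_induction with
    | mem y hy => obtain ⟨a, rfl⟩ := hy; simp [KaehlerDifferential.map_D]
    | zero => simp
    | add a b _ _ ha hb => rw [TensorProduct.tmul_add, map_add, map_add, ha, hb]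
    | smul a y _ hy =>
      rw [TensorProduct.tmul_smul, ← algebraMap_smul B a ((1 : B) ⊗ₜ[A] y), map_smul, hy, algebraMap_smul, map_smul]

theorem baseChange_bijective
    (ψ : ∀ p : ℕ, ↥(⋀[A]^p (Ω[A⁄R])) →+ ↥(⋀[B]^p (Ω[B⁄S])))
    (hψ : DeRham.IsCxMap (KaehlerDifferential.D R A) (KaehlerDifferential.D S B) (algebraMap A B) ψ)
    (p : ℕ) (Φ : S ⊗[R] ↥(⋀[A]^p (Ω[A⁄R])) →+ ↥(⋀[B]^p (Ω[B⁄S])))
    (hΦ : ∀ (s : S) (x : ↥(⋀[A]^p (Ω[A⁄R]))), Φ (s ⊗ₜ[R] x) = s • ψ p x) :
    Function.Bijective Φ := by
  haveI hsymm : Algebra.IsPushout R A S B := .symm inferInstance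
  let X := ↥(⋀[A]^p (Ω[A⁄R]))
  let g := extMap B (KaehlerDifferential.map R S A B) p
  have hψg : ∀ x : X, ψ p x = g x := fun x => by
    refine gen_induction (P := fun x => ψ p x = g x) (by rw [map_zero, map_zero])
      (fun a b ha hb => by rw [map_add, map_add, ha, hb]) (fun b₀ b => ?_) x
    rw [hψ p b₀ b, DeRham.gen, DeRham.gen, map_smul, extMap_ιMulti, algebraMap_smul]
    congr 2
    funext i
    exact (KaehlerDifferential.map_D R S A B (b i)).symm
  let e₁ : B ⊗[A] X ≃ₗ[A] X ⊗[R] S :=
    AlgebraTensorModule.congr (Algebra.IsPushout.equiv R A S B).symm.toLinearEquiv (.refl _ _)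
      ≪≫ₗ _root_.TensorProduct.comm _ _ _ ≪≫ₗ AlgebraTensorModule.cancelBaseChange ..
  let e : B ⊗[A] X ≃+ S ⊗[R] X := e₁.toAddEquiv.trans (_root_.TensorProduct.comm R X S).toAddEquiv
  let hb := (isBaseChange_extMap (isBaseChange_kaehlerMap R S A B) p).equiv
  have he : ∀ z, Φ z = hb (e.symm z) := by
    intro z
    induction z with
    | zero => simp
    | add a b ha hb' => rw [map_add, map_add, map_add, ha, hb']
    | tmul s x =>
      rw [hΦ, hψg]
      have h1 : e.symm (s ⊗ₜ[R] x) = algebraMap S B s ⊗ₜ[A] x := by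
        rw [AddEquiv.symm_apply_eq]
        simp [e, e₁, Algebra.IsPushout.equiv_symm_algebraMap_right]
      rw [h1, IsBaseChange.equiv_tmul, algebraMap_smul]
  rw [show ⇑Φ = ⇑hb ∘ ⇑e.symm from funext he]
  exact hb.bijective.comp e.symm.bijective

end DR

end Groth.Agent.DeRhamLib
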