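import Groth.Agent.DeRhamLib.BaseChange

/-!
Closed and exact forms under extension of the ground field.
-/

set_option autoImplicit false

universe u

open exteriorPower TensorProduct

namespace Groth.Agent.DeRhamLib

theorem baseChange_exact {k K V W : Type u} [Field k] [Field K] [Algebra k K] [AddCommGroup V] [Module k V]
    [AddCommGroup W] [Module k W] (f : V →ₗ[k] W) (z : K ⊗[k] V) (hz : f.baseChange K z = 0) :
    z ∈ LinearMap.range ((LinearMap.ker f).subtype.baseChange K) :=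
  (Module.Flat.lTensor_exact K (LinearMap.exact_subtype_ker_map f) z).1 hz

variable (k K A A' : Type u) [Field k] [Field K] [Algebra k K] [CommRing A] [CommRing A'] [Algebra k A]
    [Algebra A A'] [Algebra k A'] [IsScalarTower k A A'] [Algebra K A'] [IsScalarTower k K A']
    [Algebra.IsPushout k K A A']
    (d : ∀ p : ℕ, ↥(⋀[A]^p (Ω[A⁄k])) →ₗ[k] ↥(⋀[A]^(p + 1) (Ω[A⁄k])))
    (d' : ∀ p : ℕ, ↥(⋀[A']^p (Ω[A'⁄K])) →ₗ[K] ↥(⋀[A']^(p + 1) (Ω[A'⁄K])))
    (ψ : ∀ p : ℕ, ↥(⋀[A]^p (Ω[A⁄k])) →+ ↥(⋀[A']^p (Ω[A'⁄K])))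

include k K A A' in
theorem span_cocycles_coboundaries
    (hψ : DeRham.IsCxMap (KaehlerDifferential.D k A) (KaehlerDifferential.D K A') (algebraMap A A') ψ)
    (hcomm : ∀ (p : ℕ) (x : ↥(⋀[A]^p (Ω[A⁄k]))), ψ (p + 1) (d p x) = d' p (ψ p x)) (p : ℕ) :
    Submodule.span K (ψ p '' (DeRham.cocycles d p : Set ↥(⋀[A]^p (Ω[A⁄k])))) = DeRham.cocycles d' p ∧
      Submodule.span K (ψ p '' (DeRham.coboundaries d p : Set ↥(⋀[A]^p (Ω[A⁄k])))) =
        DeRham.coboundaries d' p := by
  have hlin : ∀ (q : ℕ) (c : k) (x : ↥(⋀[A]^q (Ω[A⁄k]))), ψ q (c • x) = algebraMap k K c • ψ q x := fun q c x => by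
    refine gen_induction (P := fun x => ψ q (c • x) = algebraMap k K c • ψ q x) (by simp)
      (fun a b ha hb => by rw [smul_add, map_add, map_add, ha, hb, smul_add]) (fun b₀ b => ?_) x
    rw [show c • DeRham.gen (KaehlerDifferential.D k A) q b₀ b = DeRham.gen (KaehlerDifferential.D k A) q (algebraMap k A c * b₀) b by
      rw [DeRham.gen, DeRham.gen, mul_smul, algebraMap_smul], hψ q, hψ q]
    rw [DeRham.gen, DeRham.gen, map_mul, ← IsScalarTower.algebraMap_apply, IsScalarTower.algebraMap_apply k K A',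
      mul_smul, algebraMap_smul]
  let ψl : ∀ q, ↥(⋀[A]^q (Ω[A⁄k])) →ₗ[k] ↥(⋀[A']^q (Ω[A'⁄K])) := fun q =>
    { toFun := ψ q, map_add' := map_add _, map_smul' := fun c x => by rw [hlin, algebraMap_smul]; rfl }
  let Φ : ∀ q, K ⊗[k] ↥(⋀[A]^q (Ω[A⁄k])) →ₗ[K] ↥(⋀[A']^q (Ω[A'⁄K])) := fun q => (ψl q).liftBaseChange K
  have hΦ : ∀ q, Function.Bijective (Φ q) := fun q =>
    baseChange_bijective k K A A' ψ hψ q (Φ q).toAddMonoidHom fun s x => by
      show (ψl q).liftBaseChange K (s ⊗ₜ[k] x) = _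
      rw [LinearMap.liftBaseChange_tmul]
      rfl
  have hspan : ∀ q (V : Submodule k ↥(⋀[A]^q (Ω[A⁄k]))),
      Submodule.span K (ψ q '' (V : Set _)) = (LinearMap.range (V.subtype.baseChange K)).map (Φ q) := by
    intro q V
    refine le_antisymm (Submodule.span_le.2 ?_) ?_
    · rintro _ ⟨x, hx, rfl⟩
      exact ⟨1 ⊗ₜ x, ⟨1 ⊗ₜ ⟨x, hx⟩, by simp⟩, by simp [Φ, ψl]⟩
    · rintro _ ⟨_, ⟨z, rfl⟩, rfl⟩
      induction z with
      | zero => simp
      | add a b ha hb => rw [map_add, map_add]; exact add_mem ha hb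
      | tmul s x =>
        rw [LinearMap.baseChange_tmul, LinearMap.liftBaseChange_tmul]
        exact Submodule.smul_mem _ _ (Submodule.subset_span ⟨_, x.2, rfl⟩)
  have hsq : ∀ q z, d' q (Φ q z) = Φ (q + 1) ((d q).baseChange K z) := fun q z => by
    induction z with
    | zero => simp
    | add a b ha hb => simp [map_add, ha, hb]
    | tmul s x =>
      simp only [Φ, LinearMap.baseChange_tmul, LinearMap.liftBaseChange_tmul, map_smul]
      exact congrArg (s • ·) (hcomm q x).symm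
  refine ⟨?_, ?_⟩
  · rw [DeRham.cocycles, DeRham.cocycles, hspan]
    apply le_antisymm
    · rintro _ ⟨_, ⟨z, rfl⟩, rfl⟩
      show d' p (Φ p _) = 0
      rw [hsq]
      have h1 : (d p).baseChange K (((LinearMap.ker (d p)).subtype.baseChange K) z) = 0 := by
        rw [← LinearMap.comp_apply, ← LinearMap.baseChange_comp, LinearMap.comp_ker_subtype, LinearMap.baseChange_zero,
          LinearMap.zero_apply]
      exact (congrArg (Φ (p + 1)) h1).trans (map_zero _)
    · intro y hy
      obtain ⟨z, rfl⟩ := (hΦ p).2 y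
      refine ⟨z, ?_, rfl⟩
      exact baseChange_exact (d p) z ((hΦ (p + 1)).1 (by rw [map_zero]; exact (hsq p z).symm.trans hy))
  · cases p with
    | zero => simp [DeRham.coboundaries]
    | succ p =>
      rw [DeRham.coboundaries, DeRham.coboundaries, hspan]
      apply le_antisymm
      · rintro _ ⟨_, ⟨z, rfl⟩, rfl⟩
        induction z with
        | zero => simp
        | add a b ha hb => rw [map_add, map_add]; exact add_mem ha hb
        | tmul s x =>
          obtain ⟨w, hw⟩ := x.2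
          refine ⟨Φ p (s ⊗ₜ w), ?_⟩
          rw [hsq, LinearMap.baseChange_tmul, LinearMap.baseChange_tmul, hw]
          rfl
      · rintro _ ⟨y, rfl⟩
        obtain ⟨z, rfl⟩ := (hΦ p).2 y
        refine ⟨_, ⟨(d p).rangeRestrict.baseChange K z, rfl⟩, ?_⟩
        rw [hsq]
        have h1 : ((LinearMap.range (d p)).subtype.baseChange K) ((d p).rangeRestrict.baseChange K z) = (d p).baseChange K z := by
          rw [← LinearMap.comp_apply, ← LinearMap.baseChange_comp, LinearMap.subtype_comp_codRestrict]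
        exact congrArg (Φ (p + 1)) h1

end Groth.Agent.DeRhamLib
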