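import Mathlib
import Groth.Prelude.Def_DeRham
import Groth.Prelude.Def_DiffOp

/-!
Generators of forms and consequences of the de Rham rule.
-/

set_option autoImplicit false

universe u

open exteriorPower

namespace Groth.Agent.DeRhamLib

variable {R A : Type u} [CommRing R] [CommRing A] [Algebra R A]

local notation "δ" => KaehlerDifferential.D R A

theorem gen_induction {p : ℕ} {P : ↥(⋀[A]^p (Ω[A⁄R])) → Prop} (h0 : P 0)
    (hadd : ∀ x y, P x → P y → P (x + y)) (hgen : ∀ b₀ b, P (DeRham.gen δ p b₀ b)) (x) : P x := by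
  have hx : x ∈ Submodule.span A
      (ιMulti A p '' {a : Fin p → Ω[A⁄R] | Set.range a ⊆ Set.range δ}) := by
    rw [ιMulti_span_of_span A p _ (KaehlerDifferential.span_range_derivation R A)]
    trivial
  refine Submodule.closure_induction h0 (fun a b _ _ ha hb => hadd a b ha hb) (fun c y hy => ?_) hx
  obtain ⟨a, ha, rfl⟩ := hy
  choose b hb using fun i => ha ⟨i, rfl⟩
  obtain rfl : (fun i => δ (b i)) = a := funext hb
  exact hgen c b

variable {d : ∀ p : ℕ, ↥(⋀[A]^p (Ω[A⁄R])) →ₗ[R] ↥(⋀[A]^(p + 1) (Ω[A⁄R]))}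

theorem isDiff_of_isRule (hd : DeRham.IsRule δ d) : DeRham.IsDiff δ d := by
  refine ⟨hd, fun p => LinearMap.ext fun x => ?_⟩
  refine gen_induction (P := fun x => (d (p + 1) ∘ₗ d p) x = 0) (map_zero _)
    (fun a b ha hb => by rw [map_add, ha, hb, add_zero]) (fun b₀ b => ?_) x
  show d (p + 1) (d p _) = 0
  rw [hd p b₀ b]
  have e : ιMulti A (p + 1) (Fin.cons (δ b₀) fun i => δ (b i)) = DeRham.gen δ (p + 1) 1 (Fin.cons b₀ b) := by
    rw [DeRham.gen, one_smul]
    congr 1
    funext i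
    refine Fin.cases ?_ (fun j => ?_) i <;> simp
  rw [e, hd (p + 1) 1]
  exact AlternatingMap.map_coord_zero _ 0 (by simp)

theorem isDiffOpLE_one (hd : DeRham.IsRule δ d) (p : ℕ) :
    Diff16.IsDiffOpLE R A ↥(⋀[A]^p (Ω[A⁄R])) ↥(⋀[A]^(p + 1) (Ω[A⁄R])) 1 (d p) := by
  intro b c m
  have key : ∀ b₀ b', Diff16.commutator R A _ _ (d p) b (DeRham.gen δ p b₀ b') =
      b₀ • ιMulti A (p + 1) (Fin.cons (δ b) fun i => δ (b' i)) := by
    intro b₀ b'
    show d p (b • DeRham.gen δ p b₀ b') - b • d p (DeRham.gen δ p b₀ b') = _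
    rw [show b • DeRham.gen δ p b₀ b' = DeRham.gen δ p (b * b₀) b' from smul_smul _ _ _, hd, hd]
    rw [show δ (b * b₀) = b • δ b₀ + b₀ • δ b from Derivation.leibniz _ b b₀]
    have hcons : ∀ x : Ω[A⁄R], ιMulti A (p + 1) (Fin.cons x fun i => δ (b' i)) =
        (ιMulti A (p + 1) (M := Ω[A⁄R])).curryLeft x (fun i => δ (b' i)) := fun x => rfl
    simp only [hcons, map_add, map_smul, AlternatingMap.add_apply, AlternatingMap.smul_apply]
    rw [add_sub_cancel_left]
  refine gen_induction (P := fun m => Diff16.commutator R A _ _ (d p) b (c • m) =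
    c • Diff16.commutator R A _ _ (d p) b m) (by rw [smul_zero, map_zero, smul_zero])
    (fun x y hx hy => by rw [smul_add, map_add, hx, hy, map_add, smul_add]) (fun b₀ b' => ?_) m
  rw [show c • DeRham.gen δ p b₀ b' = DeRham.gen δ p (c * b₀) b' from smul_smul _ _ _, key, key, smul_smul]

end Groth.Agent.DeRhamLib
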