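import Groth.Agent.DeRhamLib.Poincare
import Groth.Agent.S15293

/-!
Homotopy invariance of de Rham cohomology for the affine line over a rational algebra.
-/

set_option autoImplicit false

universe u

open exteriorPower Polynomial

namespace Groth.Agent.DeRhamLib.Homotopy

open Poincare

section General

variable {R A M : Type u} [CommRing R] [CommRing A] [Algebra R A] [AddCommGroup M] [Module A M] [Module R M]
  [IsScalarTower R A M] {δ : Derivation R A M} {d : ∀ p : ℕ, ↥(⋀[A]^p M) →ₗ[R] ↥(⋀[A]^(p + 1) M)}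

theorem d_contract_weight (hgen : Submodule.span A (Set.range δ) = ⊤) (hd : DeRham.IsRule δ d) (φ : Module.Dual A M) :
    ∀ (q : ℕ) (b : Fin (q + 1) → A) (e : Fin (q + 1) → ℕ), (∀ i, φ (δ (b i)) = e i • b i) →
      d q (contract φ q (ιMulti A (q + 1) fun i => δ (b i))) = (∑ i, e i) • ιMulti A (q + 1) fun i => δ (b i) := by
  intro q
  induction q with
  | zero =>
    intro b e hb
    have h : (fun i => δ (b i)) = Fin.cons (δ (b 0)) (fun i : Fin 0 => δ (b i.succ)) := by
      funext i; cases i using Fin.cases <;> simp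
    rw [h, ← mulL_ιMulti, contract_mulL_zero, hb, smul_assoc, map_nsmul, Fin.sum_univ_one]
    rw [show b 0 • ιMulti A 0 (fun i : Fin 0 => δ (b i.succ)) = DeRham.gen δ 0 (b 0) (fun i : Fin 0 => b i.succ) from rfl,
      hd, mulL_ιMulti]
  | succ q ih =>
    intro b e hb
    have h : (fun i => δ (b i)) = Fin.cons (δ (b 0)) (fun i : Fin (q + 1) => δ (b i.succ)) := by
      funext i; cases i using Fin.cases <;> simp
    rw [h, ← mulL_ιMulti, contract_mulL, hb, map_sub, smul_assoc, map_nsmul, d_smul hgen hd, d_ιMulti hd, smul_zero,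
      add_zero, d_mulL hgen hd, ih _ (fun i => e i.succ) (fun i => hb i.succ), map_nsmul, sub_neg_eq_add,
      Fin.sum_univ_succ e, add_smul]

/-- The Lie derivative. -/
noncomputable def lie (φ : Module.Dual A M) (d : ∀ p : ℕ, ↥(⋀[A]^p M) →ₗ[R] ↥(⋀[A]^(p + 1) M)) :
    ∀ q, ↥(⋀[A]^q M) →ₗ[R] ↥(⋀[A]^q M)
  | 0 => ((contract φ 0).restrictScalars R).comp (d 0)
  | q + 1 => (d q).comp ((contract φ q).restrictScalars R) + ((contract φ (q + 1)).restrictScalars R).comp (d (q + 1))

theorem lie_gen (hgen : Submodule.span A (Set.range δ) = ⊤) (hd : DeRham.IsRule δ d) (φ : Module.Dual A M)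
    (f : A) (m : ℕ) (hf : φ (δ f) = m • f) (q : ℕ) (b : Fin q → A) (e : Fin q → ℕ)
    (hb : ∀ i, φ (δ (b i)) = e i • b i) :
    lie φ d q (DeRham.gen δ q f b) = (m + ∑ i, e i) • DeRham.gen δ q f b := by
  cases q with
  | zero =>
    show contract φ 0 (d 0 (f • ιMulti A 0 fun i => δ (b i))) = _
    rw [d_smul hgen hd, d_ιMulti hd, smul_zero, add_zero, contract_mulL_zero, hf, smul_assoc,
      Fin.sum_univ_zero, add_zero]
    rfl
  | succ q =>
    show d q (contract φ q (f • ιMulti A (q + 1) fun i => δ (b i))) +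
        contract φ (q + 1) (d (q + 1) (f • ιMulti A (q + 1) fun i => δ (b i))) = _
    rw [map_smul, d_smul hgen hd, d_smul hgen hd, d_contract_weight hgen hd φ q b e hb, d_ιMulti hd, smul_zero, add_zero,
      contract_mulL, hf, DeRham.gen]
    rw [smul_assoc, add_smul, smul_comm f]
    abel

theorem lie_comm (hd : DeRham.IsDiff δ d) (φ : Module.Dual A M) (q : ℕ) (y : ↥(⋀[A]^q M)) :
    lie φ d (q + 1) (d q y) = d q (lie φ d q y) := by
  have hdd : ∀ q x, d (q + 1) (d q x) = 0 := fun q x => LinearMap.congr_fun (hd.2 q) x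
  cases q <;> simp [lie, hdd]

theorem eq_zero_of_sum_eq_zero [Algebra ℚ R] {V : Type u} [AddCommGroup V] [Module R V] (L : V →ₗ[R] V)
    (s : Finset ℕ) : ∀ y : ℕ → V, (∀ n ∈ s, L (y n) = n • y n) → ∑ n ∈ s, y n = 0 → ∀ n ∈ s, y n = 0 := by
  classical
  induction s using Finset.induction_on with
  | empty => simp
  | insert N s hN ih =>
    intro y hy hsum
    have hs : ∀ n ∈ s, y n = 0 := by
      have h1 := ih (fun n => ((n : R) - N) • y n)
        (fun n hn => by rw [map_smul, hy n (Finset.mem_insert_of_mem hn), smul_comm]) (by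
          have h2 := congrArg (fun v => L v - (N : R) • v) hsum
          simp only [map_zero, smul_zero, sub_zero, map_sum, Finset.smul_sum, ← Finset.sum_sub_distrib] at h2
          rw [Finset.sum_insert hN, hy N (Finset.mem_insert_self _ _), Nat.cast_smul_eq_nsmul, sub_self, zero_add] at h2
          rw [← h2]
          refine Finset.sum_congr rfl fun n hn => ?_
          rw [hy n (Finset.mem_insert_of_mem hn), sub_smul, Nat.cast_smul_eq_nsmul])
      intro n hn
      have hu : IsUnit ((n : R) - N) := by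
        have hne : ((n : ℚ) - N) ≠ 0 := sub_ne_zero.2 fun h => hN ((Nat.cast_injective h) ▸ hn)
        simpa using (IsUnit.mk0 _ hne).map (algebraMap ℚ R)
      exact hu.smul_eq_zero.1 (h1 n hn)
    intro n hn
    rcases Finset.mem_insert.1 hn with rfl | hn
    · rwa [Finset.sum_insert hN, Finset.sum_eq_zero hs, add_zero] at hsum
    · exact hs n hn

end General

variable (R A : Type u) [CommRing R] [CommRing A] [Algebra R A]

local notation "δ'" => KaehlerDifferential.D R A[X]

/-- The Euler field as a functional on differentials. -/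
noncomputable def euler : Module.Dual A[X] (Ω[A[X]⁄R]) :=
  ((X : A[X]) • (Polynomial.derivative' (R := A)).restrictScalars R).liftKaehlerDifferential

theorem euler_D (f : A[X]) : euler R A (δ' f) = X * derivative f := by
  rw [euler, Derivation.liftKaehlerDifferential_comp_D]
  rfl

theorem euler_monomial (m : ℕ) (c : A) : euler R A (δ' (monomial m c)) = m • monomial m c := by
  rw [euler_D, ← Polynomial.C_mul_X_pow_eq_monomial, Polynomial.derivative_C_mul_X_pow, nsmul_eq_mul,
    map_mul, map_natCast]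
  cases m with
  | zero => simp
  | succ m => rw [Nat.add_sub_cancel, pow_succ]; ring

/-- The forms of given weight. -/
noncomputable def weightSubmodule (q n : ℕ) : Submodule R ↥(⋀[A[X]]^q (Ω[A[X]⁄R])) :=
  Submodule.span R {y | ∃ (m : ℕ) (c : A) (b : Fin q → A[X]) (e : Fin q → ℕ), m + ∑ i, e i = n ∧
    (∀ i, (e i = 0 ∧ ∃ a, b i = C a) ∨ (e i = 1 ∧ b i = X)) ∧ y = DeRham.gen δ' q (monomial m c) b}

variable {R A}

theorem exists_decomp (q : ℕ) (ω : ↥(⋀[A[X]]^q (Ω[A[X]⁄R]))) :
    ∃ f : ℕ →₀ ↥(⋀[A[X]]^q (Ω[A[X]⁄R])), (∀ n, f n ∈ weightSubmodule R A q n) ∧ (f.sum fun _ x => x) = ω := by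
  classical
  rw [← Submodule.mem_iSup_iff_exists_finsupp]
  have hspan : Submodule.span A[X] (δ' '' {p | p = X ∨ ∃ a, p = C a}) = ⊤ := by
    rw [eq_top_iff, ← KaehlerDifferential.span_range_derivation, Submodule.span_le]
    rintro _ ⟨p, rfl⟩
    induction p using Polynomial.induction_on with
    | C a => exact Submodule.subset_span ⟨_, Or.inr ⟨a, rfl⟩, rfl⟩
    | add p q hp hq => rw [map_add]; exact add_mem hp hq
    | monomial n a h =>
      rw [pow_succ, ← mul_assoc, Derivation.leibniz]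
      exact add_mem (Submodule.smul_mem _ _ (Submodule.subset_span ⟨_, Or.inl rfl, rfl⟩)) (Submodule.smul_mem _ _ h)
  have hω : ω ∈ Submodule.span A[X]
      (ιMulti A[X] q '' {a : Fin q → Ω[A[X]⁄R] | Set.range a ⊆ δ' '' {p | p = X ∨ ∃ a, p = C a}}) := by
    rw [ιMulti_span_of_span A[X] q _ hspan]
    trivial
  refine Submodule.closure_induction (zero_mem _) (fun a b _ _ ha hb => add_mem ha hb) (fun f y hy => ?_) hω
  obtain ⟨v, hv, rfl⟩ := hy
  choose b hb hb' using fun i => hv ⟨i, rfl⟩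
  obtain rfl : (fun i => δ' (b i)) = v := funext hb'
  induction f using Polynomial.induction_on' with
  | add f g hf hg => rw [add_smul]; exact add_mem hf hg
  | monomial m c =>
    let e : Fin q → ℕ := fun i => if ∃ a, b i = C a then 0 else 1
    refine Submodule.mem_iSup_of_mem (m + ∑ i, e i) (Submodule.subset_span ⟨m, c, b, e, rfl, fun i => ?_, rfl⟩)
    by_cases h : ∃ a, b i = C a
    · exact Or.inl ⟨if_pos h, h⟩
    · exact Or.inr ⟨if_neg h, (hb i).resolve_right h⟩

variable {d' : ∀ p : ℕ, ↥(⋀[A[X]]^p (Ω[A[X]⁄R])) →ₗ[R] ↥(⋀[A[X]]^(p + 1) (Ω[A[X]⁄R]))}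

theorem lie_of_mem (hd' : DeRham.IsRule δ' d') {q n : ℕ} {y : ↥(⋀[A[X]]^q (Ω[A[X]⁄R]))}
    (hy : y ∈ weightSubmodule R A q n) : lie (euler R A) d' q y = n • y := by
  induction hy using Submodule.span_induction with
  | zero => simp
  | add a b _ _ ha hb => rw [map_add, ha, hb, smul_add]
  | smul r a _ ha => rw [map_smul, ha, smul_comm]
  | mem y hy =>
    obtain ⟨m, c, b, e, hn, hbe, rfl⟩ := hy
    rw [lie_gen (KaehlerDifferential.span_range_derivation R A[X]) hd' (euler R A) _ m (euler_monomial R A m c) q b e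
      (fun i => ?_), hn]
    rcases hbe i with ⟨he, a, ha⟩ | ⟨he, hX⟩
    · rw [ha, he, euler_D, derivative_C, mul_zero, zero_smul]
    · rw [hX, he, euler_D, derivative_X, mul_one, one_smul]

variable {ψ : ∀ p : ℕ, ↥(⋀[A]^p (Ω[A⁄R])) →+ ↥(⋀[A[X]]^p (Ω[A[X]⁄R]))}

theorem psi_smul (hψ : DeRham.IsCxMap (KaehlerDifferential.D R A) δ' (algebraMap A A[X]) ψ) (q : ℕ) (r : R)
    (x : ↥(⋀[A]^q (Ω[A⁄R]))) : ψ q (r • x) = r • ψ q x := by
  refine Poincare.gen_induction (KaehlerDifferential.span_range_derivation R A) (P := fun x => ψ q (r • x) = r • ψ q x) (by simp)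
    (fun a b ha hb => by rw [smul_add, map_add, map_add, ha, hb, smul_add]) (fun b₀ b => ?_) x
  rw [show r • DeRham.gen (KaehlerDifferential.D R A) q b₀ b = DeRham.gen (KaehlerDifferential.D R A) q (algebraMap R A r * b₀) b by
    rw [DeRham.gen, DeRham.gen, mul_smul, algebraMap_smul], hψ q, hψ q]
  rw [DeRham.gen, DeRham.gen, map_mul, ← IsScalarTower.algebraMap_apply, mul_smul, algebraMap_smul]

theorem psi_injective (hψ : DeRham.IsCxMap (KaehlerDifferential.D R A) δ' (algebraMap A A[X]) ψ) (q : ℕ) :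
    Function.Injective (ψ q) := by
  letI : Algebra A[X] A := (Polynomial.evalRingHom (0 : A)).toAlgebra
  haveI : IsScalarTower R A[X] A := IsScalarTower.of_algebraMap_eq fun r => by
    rw [RingHom.algebraMap_toAlgebra, IsScalarTower.algebraMap_apply R A A[X]]
    simp
  obtain ⟨π, hπ⟩ := Groth.Agent.S15293.result R R A[X] A
  refine Function.LeftInverse.injective (g := π q) fun x => ?_
  refine Poincare.gen_induction (KaehlerDifferential.span_range_derivation R A) (P := fun x => π q (ψ q x) = x) (by simp)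
    (fun a b ha hb => by rw [map_add, map_add, ha, hb]) (fun b₀ b => ?_) x
  rw [hψ q, hπ q]
  simp [RingHom.algebraMap_toAlgebra, DeRham.gen]

theorem mem_range_of_weight_zero (hψ : DeRham.IsCxMap (KaehlerDifferential.D R A) δ' (algebraMap A A[X]) ψ) {q : ℕ}
    {y : ↥(⋀[A[X]]^q (Ω[A[X]⁄R]))} (hy : y ∈ weightSubmodule R A q 0) : ∃ x, ψ q x = y := by
  induction hy using Submodule.span_induction with
  | zero => exact ⟨0, map_zero _⟩
  | add a b _ _ ha hb =>
    obtain ⟨x, rfl⟩ := ha
    obtain ⟨x', rfl⟩ := hb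
    exact ⟨x + x', map_add _ _ _⟩
  | smul r a _ ha =>
    obtain ⟨x, rfl⟩ := ha
    exact ⟨r • x, psi_smul hψ q r x⟩
  | mem y hy =>
    obtain ⟨m, c, b, e, hn, hbe, rfl⟩ := hy
    rw [Nat.add_eq_zero_iff, Finset.sum_eq_zero_iff] at hn
    obtain ⟨rfl, he⟩ := hn
    choose a ha using fun i => (hbe i).resolve_right (fun h => by simp [he i (Finset.mem_univ _)] at h) |>.2
    refine ⟨DeRham.gen (KaehlerDifferential.D R A) q c a, ?_⟩
    rw [hψ q, monomial_zero_left]
    congr 1
    funext i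
    exact (ha i).symm

theorem lie_psi (hψ : DeRham.IsCxMap (KaehlerDifferential.D R A) δ' (algebraMap A A[X]) ψ)
    (q : ℕ) (x : ↥(⋀[A]^q (Ω[A⁄R]))) : ψ q x ∈ weightSubmodule R A q 0 := by
  refine Poincare.gen_induction (KaehlerDifferential.span_range_derivation R A) (P := fun x => ψ q x ∈ weightSubmodule R A q 0)
    (by rw [map_zero]; exact zero_mem _) (fun a b ha hb => by rw [map_add]; exact add_mem ha hb) (fun b₀ b => ?_) x
  rw [hψ q]
  exact Submodule.subset_span ⟨0, b₀, fun i => C (b i), fun _ => 0, by simp, fun i => Or.inl ⟨rfl, b i, rfl⟩,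
    by rw [monomial_zero_left]; rfl⟩

theorem quasiIso [Algebra ℚ R] (d : ∀ p : ℕ, ↥(⋀[A]^p (Ω[A⁄R])) →ₗ[R] ↥(⋀[A]^(p + 1) (Ω[A⁄R])))
    (hd' : DeRham.IsDiff δ' d') (hψ : DeRham.IsCxMap (KaehlerDifferential.D R A) δ' (algebraMap A A[X]) ψ)
    (hcomm : ∀ (p : ℕ) (x : ↥(⋀[A]^p (Ω[A⁄R]))), ψ (p + 1) (d p x) = d' p (ψ p x)) (i : ℕ) :
    (∀ y ∈ DeRham.cocycles d' i, ∃ x ∈ DeRham.cocycles d i, y - ψ i x ∈ DeRham.coboundaries d' i) ∧
      (∀ x ∈ DeRham.cocycles d i, ψ i x ∈ DeRham.coboundaries d' i → x ∈ DeRham.coboundaries d i) := by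
  classical
  let φ := euler R A
  have hinv : ∀ n : ℕ, n ≠ 0 → (algebraMap ℚ R (n : ℚ)⁻¹) * (n : R) = 1 := fun n hn => by
    rw [← map_natCast (algebraMap ℚ R) n, ← map_mul, inv_mul_cancel₀ (Nat.cast_ne_zero.2 hn), map_one]
  refine ⟨fun y hy => ?_, fun x hx hxb => ?_⟩
  · obtain ⟨f, hf, hsum⟩ := exists_decomp i y
    have hdf : ∀ n, d' i (f n) = 0 := by
      intro n
      by_cases hn : n ∈ f.support
      · refine eq_zero_of_sum_eq_zero (lie φ d' (i + 1)) f.support (fun n => d' i (f n)) (fun n _ => ?_) ?_ n hn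
        · rw [lie_comm hd', lie_of_mem hd'.1 (hf n), map_nsmul]
        · rw [← map_sum, show ∑ n ∈ f.support, f n = y from hsum]
          exact hy
      · rw [Finsupp.notMem_support_iff.1 hn, map_zero]
    obtain ⟨x, hx⟩ := mem_range_of_weight_zero hψ (hf 0)
    refine ⟨x, psi_injective hψ (i + 1) (by rw [hcomm, hx, hdf, map_zero]), ?_⟩
    have hpos : ∀ n, n ≠ 0 → f n ∈ DeRham.coboundaries d' i := by
      intro n hn
      have h1 : f n = algebraMap ℚ R (n : ℚ)⁻¹ • lie φ d' i (f n) := by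
        rw [lie_of_mem hd'.1 (hf n), ← Nat.cast_smul_eq_nsmul R, smul_smul, hinv n hn, one_smul]
      cases i with
      | zero =>
        rw [h1, show lie φ d' 0 (f n) = contract φ 0 (d' 0 (f n)) from rfl, hdf, map_zero, smul_zero]
        exact zero_mem _
      | succ j =>
        rw [h1]
        refine ⟨algebraMap ℚ R (n : ℚ)⁻¹ • contract φ j (f n), ?_⟩
        rw [map_smul]
        congr 1
        show _ = d' j (contract φ j (f n)) + contract φ (j + 1) (d' (j + 1) (f n))
        rw [hdf, map_zero, add_zero]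
    rw [hx, ← hsum, Finsupp.sum]
    by_cases h0 : 0 ∈ f.support
    · rw [← Finset.add_sum_erase _ _ h0, add_sub_cancel_left]
      exact Submodule.sum_mem _ fun n hn => hpos n (Finset.ne_of_mem_erase hn)
    · rw [Finsupp.notMem_support_iff.1 h0, sub_zero]
      exact Submodule.sum_mem _ fun n hn => hpos n fun h => h0 (h ▸ hn)
  · cases i with
    | zero =>
      have : x = 0 := psi_injective hψ 0 (by rw [map_zero]; exact (Submodule.mem_bot R).1 hxb)
      rw [this]
      exact zero_mem _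
    | succ j =>
      obtain ⟨η, hη⟩ := hxb
      obtain ⟨f, hf, hsum⟩ := exists_decomp j η
      obtain ⟨y, hy⟩ := mem_range_of_weight_zero hψ (hf 0)
      refine ⟨y, psi_injective hψ (j + 1) ?_⟩
      rw [hcomm, hy]
      have h1 := eq_zero_of_sum_eq_zero (lie φ d' (j + 1)) (insert 0 f.support)
        (fun n => d' j (f n) - if n = 0 then ψ (j + 1) x else 0) (fun n _ => ?_) ?_ 0 (Finset.mem_insert_self _ _)
      · rwa [if_pos rfl, sub_eq_zero] at h1
      · split_ifs with hn
        · subst hn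
          rw [map_sub, lie_comm hd', lie_of_mem hd'.1 (hf 0), map_nsmul, lie_of_mem hd'.1 (lie_psi hψ _ x),
            smul_sub]
        · rw [sub_zero, lie_comm hd', lie_of_mem hd'.1 (hf n), map_nsmul]
      · rw [Finset.sum_sub_distrib, Finset.sum_ite_eq' (insert 0 f.support), if_pos (Finset.mem_insert_self _ _),
          Finset.sum_insert_of_eq_zero_if_notMem (fun h => by rw [Finsupp.notMem_support_iff.1 h, map_zero]), ← map_sum,
          show ∑ n ∈ f.support, f n = η from hsum, hη, sub_self]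

end Groth.Agent.DeRhamLib.Homotopy
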