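import Mathlib
import Groth.Prelude.Def_DeRham

/-!
The Lie derivative along the Euler field and the formal Poincare lemma.
-/

set_option autoImplicit false

universe u

open exteriorPower

namespace Groth.Agent.DeRhamLib.Poincare

section General

variable {R A M : Type u} [CommRing R] [CommRing A] [Algebra R A] [AddCommGroup M] [Module A M] [Module R M]
  [IsScalarTower R A M]

theorem gen_induction {δ : Derivation R A M} (hgen : Submodule.span A (Set.range δ) = ⊤) {p : ℕ}
    {P : ↥(⋀[A]^p M) → Prop} (h0 : P 0)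
    (hadd : ∀ x y, P x → P y → P (x + y)) (hg : ∀ b₀ b, P (DeRham.gen δ p b₀ b)) (x) : P x := by
  have hx : x ∈ Submodule.span A (ιMulti A p '' {a : Fin p → M | Set.range a ⊆ Set.range δ}) := by
    rw [ιMulti_span_of_span A p _ hgen]
    trivial
  refine Submodule.closure_induction h0 (fun a b _ _ ha hb => hadd a b ha hb) (fun c y hy => ?_) hx
  obtain ⟨a, ha, rfl⟩ := hy
  choose b hb using fun i => ha ⟨i, rfl⟩
  obtain rfl : (fun i => δ (b i)) = a := funext hb
  exact hg c b

/-- Left multiplication by a form of degree one. -/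
noncomputable def mulL (m : M) (q : ℕ) : ↥(⋀[A]^q M) →ₗ[A] ↥(⋀[A]^(q + 1) M) :=
  ((LinearMap.mulLeft A (ExteriorAlgebra.ι A m)).comp (⋀[A]^q M).subtype).codRestrict _ fun x => by
    show ExteriorAlgebra.ι A m * (x : ExteriorAlgebra A M) ∈ ⋀[A]^(q + 1) M
    unfold ExteriorAlgebra.exteriorPower
    rw [pow_succ']
    exact Submodule.mul_mem_mul ⟨m, rfl⟩ x.2

theorem coe_mulL (m : M) (q : ℕ) (x : ↥(⋀[A]^q M)) :
    (mulL m q x : ExteriorAlgebra A M) = ExteriorAlgebra.ι A m * (x : ExteriorAlgebra A M) := rfl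

theorem coe_ιMulti_cons (m : M) {q : ℕ} (v : Fin q → M) :
    (ιMulti A (q + 1) (Fin.cons m v) : ExteriorAlgebra A M) = ExteriorAlgebra.ι A m * (ιMulti A q v : ExteriorAlgebra A M) := by
  rw [ιMulti_apply_coe, ιMulti_apply_coe, ExteriorAlgebra.ιMulti_succ_apply]
  simp [Matrix.vecTail, Function.comp_def]

theorem mulL_ιMulti (m : M) {q : ℕ} (v : Fin q → M) : mulL m q (ιMulti A q v) = ιMulti A (q + 1) (Fin.cons m v) :=
  Subtype.ext (by rw [coe_mulL, coe_ιMulti_cons])

variable {δ : Derivation R A M} {d : ∀ p : ℕ, ↥(⋀[A]^p M) →ₗ[R] ↥(⋀[A]^(p + 1) M)}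

theorem d_smul (hgen : Submodule.span A (Set.range δ) = ⊤) (hd : DeRham.IsRule δ d) (a : A) (q : ℕ)
    (η : ↥(⋀[A]^q M)) : d q (a • η) = mulL (δ a) q η + a • d q η := by
  refine gen_induction hgen (P := fun η => d q (a • η) = mulL (δ a) q η + a • d q η) (by simp)
    (fun x y hx hy => by simp only [smul_add, map_add, hx, hy]; abel) (fun b₀ b => ?_) η
  rw [show a • DeRham.gen δ q b₀ b = DeRham.gen δ q (a * b₀) b from smul_smul _ _ _, hd, hd, DeRham.gen, map_smul,
    ← mulL_ιMulti, ← mulL_ιMulti]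
  apply Subtype.ext
  simp only [Submodule.coe_add, Submodule.coe_smul, coe_mulL, Derivation.leibniz, map_add, map_smul, add_mul,
    smul_mul_assoc]
  rw [add_comm]

theorem d_mulL (hgen : Submodule.span A (Set.range δ) = ⊤) (hd : DeRham.IsRule δ d) (a : A) (q : ℕ)
    (η : ↥(⋀[A]^q M)) : d (q + 1) (mulL (δ a) q η) = - mulL (δ a) (q + 1) (d q η) := by
  refine gen_induction hgen (P := fun η => d (q + 1) (mulL (δ a) q η) = - mulL (δ a) (q + 1) (d q η)) (by simp)
    (fun x y hx hy => by simp only [map_add, hx, hy]; abel) (fun b₀ b => ?_) η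
  have e : mulL (δ a) q (DeRham.gen δ q b₀ b) = DeRham.gen δ (q + 1) b₀ (Fin.cons a b) := by
    rw [DeRham.gen, map_smul, mulL_ιMulti, DeRham.gen]
    congr 2
    funext i
    cases i using Fin.cases <;> simp
  rw [e, hd, hd]
  have e2 : (fun i => δ ((Fin.cons a b : Fin (q + 1) → A) i)) = Fin.cons (δ a) fun i => δ (b i) := by
    funext i
    cases i using Fin.cases <;> simp
  rw [e2]
  apply Subtype.ext
  rw [NegMemClass.coe_neg, coe_mulL, coe_ιMulti_cons, coe_ιMulti_cons, coe_ιMulti_cons, ← mul_assoc, ← mul_assoc,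
    eq_neg_iff_add_eq_zero, ← add_mul, ExteriorAlgebra.ι_add_mul_swap, zero_mul]

theorem d_ιMulti (hd : DeRham.IsRule δ d) {q : ℕ} (b : Fin q → A) : d q (ιMulti A q fun i => δ (b i)) = 0 := by
  have h := hd q 1 b
  rw [DeRham.gen, one_smul] at h
  rw [h]
  exact AlternatingMap.map_coord_zero _ 0 (by simp)

theorem contract_mem (φ : Module.Dual A M) : ∀ (q : ℕ) (x : ExteriorAlgebra A M), x ∈ ⋀[A]^(q + 1) M →
    CliffordAlgebra.contractLeft φ x ∈ ⋀[A]^q M := by
  intro q
  induction q with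
  | zero =>
    intro x hx
    unfold ExteriorAlgebra.exteriorPower at hx ⊢
    rw [pow_one] at hx
    obtain ⟨v, rfl⟩ := hx
    rw [pow_zero]
    rw [show ExteriorAlgebra.ι A v = CliffordAlgebra.ι (0 : QuadraticForm A M) v from rfl, CliffordAlgebra.contractLeft_ι]
    exact Submodule.algebraMap_mem _
  | succ q ih =>
    intro x hx
    unfold ExteriorAlgebra.exteriorPower at hx ⊢
    rw [pow_succ'] at hx
    refine Submodule.mul_induction_on hx (fun u hu y hy => ?_) fun a b ha hb => by rw [map_add]; exact add_mem ha hb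
    obtain ⟨v, rfl⟩ := hu
    rw [show ExteriorAlgebra.ι A v = CliffordAlgebra.ι (0 : QuadraticForm A M) v from rfl,
      CliffordAlgebra.contractLeft_ι_mul]
    refine sub_mem (Submodule.smul_mem _ _ hy) ?_
    rw [pow_succ']
    exact Submodule.mul_mem_mul ⟨v, rfl⟩ (ih y hy)

/-- Contraction of forms. -/
noncomputable def contract (φ : Module.Dual A M) (q : ℕ) : ↥(⋀[A]^(q + 1) M) →ₗ[A] ↥(⋀[A]^q M) :=
  ((CliffordAlgebra.contractLeft φ).comp (⋀[A]^(q + 1) M).subtype).codRestrict _ fun x => contract_mem φ q x.1 x.2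

theorem contract_mulL (φ : Module.Dual A M) (m : M) (q : ℕ) (x : ↥(⋀[A]^(q + 1) M)) :
    contract φ (q + 1) (mulL m (q + 1) x) = φ m • x - mulL m q (contract φ q x) :=
  Subtype.ext (CliffordAlgebra.contractLeft_ι_mul φ m (x : ExteriorAlgebra A M))

theorem contract_mulL_zero (φ : Module.Dual A M) (m : M) (x : ↥(⋀[A]^0 M)) :
    contract φ 0 (mulL m 0 x) = φ m • x := by
  apply Subtype.ext
  have h0 : ∀ y : ExteriorAlgebra A M, y ∈ ⋀[A]^0 M → y ∈ (1 : Submodule A (ExteriorAlgebra A M)) := fun y hy => by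
    unfold ExteriorAlgebra.exteriorPower at hy
    rwa [pow_zero] at hy
  obtain ⟨c, hc⟩ := Submodule.mem_one.1 (h0 _ x.2)
  show CliffordAlgebra.contractLeft φ (ExteriorAlgebra.ι A m * (x : ExteriorAlgebra A M)) = φ m • (x : ExteriorAlgebra A M)
  rw [← hc]
  refine (CliffordAlgebra.contractLeft_ι_mul φ m _).trans ?_
  rw [CliffordAlgebra.contractLeft_algebraMap, mul_zero, sub_zero]

theorem d_contract_ιMulti (hgen : Submodule.span A (Set.range δ) = ⊤) (hd : DeRham.IsRule δ d) (φ : Module.Dual A M) :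
    ∀ (q : ℕ) (b : Fin (q + 1) → A), (∀ i, φ (δ (b i)) = b i) →
      d q (contract φ q (ιMulti A (q + 1) fun i => δ (b i))) = (q + 1 : ℕ) • ιMulti A (q + 1) fun i => δ (b i) := by
  intro q
  induction q with
  | zero =>
    intro b hb
    have e : (fun i => δ (b i)) = Fin.cons (δ (b 0)) (fun i : Fin 0 => δ (b i.succ)) := by
      funext i; cases i using Fin.cases <;> simp
    rw [e, ← mulL_ιMulti, contract_mulL_zero, hb]
    rw [show b 0 • ιMulti A 0 (fun i : Fin 0 => δ (b i.succ)) = DeRham.gen δ 0 (b 0) (fun i : Fin 0 => b i.succ) from rfl,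
      hd, mulL_ιMulti]
    exact (one_smul ℕ _).symm
  | succ q ih =>
    intro b hb
    have e : (fun i => δ (b i)) = Fin.cons (δ (b 0)) (fun i : Fin (q + 1) => δ (b i.succ)) := by
      funext i; cases i using Fin.cases <;> simp
    rw [e, ← mulL_ιMulti, contract_mulL, hb, map_sub, d_smul hgen hd, d_ιMulti hd, smul_zero, add_zero,
      d_mulL hgen hd, ih _ (fun i => hb i.succ), map_nsmul, sub_neg_eq_add, succ_nsmul' _ (q + 1)]

theorem lie_smul_ιMulti (hgen : Submodule.span A (Set.range δ) = ⊤) (hd : DeRham.IsRule δ d) (φ : Module.Dual A M)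
    (q : ℕ) (b : Fin (q + 1) → A) (hb : ∀ i, φ (δ (b i)) = b i) (f : A) :
    d q (contract φ q (f • ιMulti A (q + 1) fun i => δ (b i))) +
        contract φ (q + 1) (d (q + 1) (f • ιMulti A (q + 1) fun i => δ (b i))) =
      (φ (δ f) + (q + 1 : ℕ) • f) • ιMulti A (q + 1) fun i => δ (b i) := by
  rw [map_smul, d_smul hgen hd, d_smul hgen hd, d_contract_ιMulti hgen hd φ q b hb, d_ιMulti hd, smul_zero, add_zero,
    contract_mulL]
  simp only [add_smul, smul_add, smul_assoc, one_smul, smul_comm f]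
  abel

end General

theorem poincare (k : Type u) [Field k] [CharZero k] (σ : Type u) [Finite σ]
    (δ : Derivation k (MvPowerSeries σ k) (σ → MvPowerSeries σ k))
    (hδ : ∀ (f : MvPowerSeries σ k) (i : σ), δ f i = MvPowerSeries.pderiv k i f)
    (hgen : Submodule.span (MvPowerSeries σ k) (Set.range δ) = ⊤)
    (d : ∀ p : ℕ, ↥(⋀[MvPowerSeries σ k]^p (σ → MvPowerSeries σ k)) →ₗ[k]
      ↥(⋀[MvPowerSeries σ k]^(p + 1) (σ → MvPowerSeries σ k)))
    (hd : DeRham.IsDiff δ d) (p : ℕ) :
    DeRham.cocycles d (p + 1) ≤ DeRham.coboundaries d (p + 1) := by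
  classical
  haveI := Fintype.ofFinite σ
  letI : LinearOrder σ := LinearOrder.lift' (Fintype.equivFin σ) (Fintype.equivFin σ).injective
  let φ : Module.Dual (MvPowerSeries σ k) (σ → MvPowerSeries σ k) :=
    ∑ i, (MvPowerSeries.X i : MvPowerSeries σ k) • LinearMap.proj i
  have hφ : ∀ v, φ v = ∑ i, (MvPowerSeries.X i : MvPowerSeries σ k) * v i := fun v => by simp [φ]
  have hcoeff : ∀ (f : MvPowerSeries σ k) (m : σ →₀ ℕ),
      MvPowerSeries.coeff m (φ (δ f)) = (m.degree : k) * MvPowerSeries.coeff m f := fun f m => by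
    rw [hφ, map_sum, Finsupp.degree_eq_sum, Nat.cast_sum, Finset.sum_mul]
    refine Finset.sum_congr rfl fun i _ => ?_
    rw [hδ, MvPowerSeries.X, MvPowerSeries.coeff_monomial_mul, one_mul]
    split_ifs with h
    · rw [MvPowerSeries.coeff_pderiv, tsub_add_cancel_of_le h, mul_comm]
      congr 1
      rw [← Nat.cast_succ]
      congr 1
      have h1 : 1 ≤ m i := by simpa using h i
      simp only [Finsupp.coe_tsub, Pi.sub_apply, Finsupp.single_eq_same]
      omega
    · have h1 : m i = 0 := by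
        by_contra h0
        exact h fun j => by
          rcases eq_or_ne j i with rfl | hj
          · simpa [Nat.one_le_iff_ne_zero] using h0
          · simp [hj]
      simp [h1]
  let bM := Pi.basisFun (MvPowerSeries σ k) σ
  have hX : ∀ i, bM i = δ (MvPowerSeries.X i) := fun i => by
    funext j
    rw [hδ, Pi.basisFun_apply]
    rcases eq_or_ne j i with rfl | hj
    · rw [MvPowerSeries.pderiv_X_self, Pi.single_eq_same]
    · rw [MvPowerSeries.pderiv_X_of_ne hj.symm, Pi.single_eq_of_ne hj]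
  have hφX : ∀ i, φ (δ (MvPowerSeries.X i)) = MvPowerSeries.X i := fun i => by
    rw [← hX, hφ, Pi.basisFun_apply, Finset.sum_eq_single i (fun j _ hj => by simp [hj]) (by simp)]
    simp
  let L : ∀ q, ↥(⋀[MvPowerSeries σ k]^(q + 1) (σ → MvPowerSeries σ k)) →ₗ[k]
      ↥(⋀[MvPowerSeries σ k]^(q + 1) (σ → MvPowerSeries σ k)) := fun q =>
    (d q).comp ((contract φ q).restrictScalars k) + ((contract φ (q + 1)).restrictScalars k).comp (d (q + 1))
  have hL : ∀ q x s, ((bM.exteriorPower (q + 1)).repr (L q x)) s =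
      φ (δ ((bM.exteriorPower (q + 1)).repr x s)) + (q + 1 : ℕ) • (bM.exteriorPower (q + 1)).repr x s := by
    intro q x s
    have hx : L q x = ∑ t, (φ (δ ((bM.exteriorPower (q + 1)).repr x t)) +
        (q + 1 : ℕ) • (bM.exteriorPower (q + 1)).repr x t) • bM.exteriorPower (q + 1) t := by
      conv_lhs => rw [← (bM.exteriorPower (q + 1)).sum_repr x, map_sum]
      refine Finset.sum_congr rfl fun t _ => ?_
      rw [exteriorPower.basis_apply, ιMulti_family]
      rw [show (bM ∘ ⇑(Set.powersetCard.ofFinEmbEquiv.symm t)) = fun i => δ (MvPowerSeries.X (Set.powersetCard.ofFinEmbEquiv.symm t i)) from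
        funext fun i => hX _]
      exact lie_smul_ιMulti hgen hd.1 φ q _ (fun i => hφX _) _
    rw [hx, (bM.exteriorPower (q + 1)).repr_sum_self]
  intro ω hω
  let T : MvPowerSeries σ k → MvPowerSeries σ k := fun f => fun m =>
    MvPowerSeries.coeff m f / ((m.degree + (p + 1) : ℕ) : k)
  let η := ∑ t, T ((bM.exteriorPower (p + 1)).repr ω t) • bM.exteriorPower (p + 1) t
  have hη : L p η = ω := by
    refine (bM.exteriorPower (p + 1)).repr.injective (Finsupp.ext fun s => ?_)
    rw [hL, (bM.exteriorPower (p + 1)).repr_sum_self]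
    refine MvPowerSeries.ext fun m => ?_
    rw [map_add, map_nsmul, hcoeff, nsmul_eq_mul, ← add_mul, ← Nat.cast_add]
    show _ * (MvPowerSeries.coeff m ((bM.exteriorPower (p + 1)).repr ω s) / _) = _
    rw [mul_div_cancel₀ _ (Nat.cast_ne_zero.2 (by omega))]
  have hdd : ∀ q x, d (q + 1) (d q x) = 0 := fun q x => LinearMap.congr_fun (hd.2 q) x
  have hdη : d (p + 1) η = 0 := by
    have h1 : L (p + 1) (d (p + 1) η) = 0 := by
      have h2 : d (p + 1) (L p η) = L (p + 1) (d (p + 1) η) := by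
        simp only [L, LinearMap.add_apply, LinearMap.comp_apply, LinearMap.restrictScalars_apply, map_add, hdd, zero_add,
          map_zero, add_zero]
      rw [← h2, hη]
      exact hω
    refine (bM.exteriorPower (p + 2)).repr.injective (Finsupp.ext fun s => MvPowerSeries.ext fun m => ?_)
    have h2 := congrArg (fun y => MvPowerSeries.coeff m ((bM.exteriorPower (p + 2)).repr y s)) h1
    rw [hL, map_add, map_nsmul, hcoeff, nsmul_eq_mul, ← add_mul, ← Nat.cast_add, map_zero, Finsupp.zero_apply, map_zero] at h2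
    rw [map_zero, Finsupp.zero_apply, map_zero]
    exact (mul_eq_zero.1 h2).resolve_left (Nat.cast_ne_zero.2 (by omega))
  refine ⟨contract φ p η, ?_⟩
  have h3 : L p η = d p (contract φ p η) := by
    simp only [L, LinearMap.add_apply, LinearMap.comp_apply, LinearMap.restrictScalars_apply, hdη, map_zero, add_zero]
  rw [← h3, hη]

end Groth.Agent.DeRhamLib.Poincare
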