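import Groth.Agent.DeRhamLib.Gen

/-!
The kernel of exterior powers of a surjection and the de Rham differential of a quotient.
-/

set_option autoImplicit false

universe u

open exteriorPower

namespace Groth.Agent.DeRhamLib

section Kernel

variable {A M N : Type u} [CommRing A] [AddCommGroup M] [Module A M] [AddCommGroup N] [Module A N]

/-- The kernel of an exterior power of a surjection is generated by wedges with a factor in the kernel. -/
theorem ker_map_le (π : M →ₗ[A] N) (hπ : Function.Surjective π) (p : ℕ) :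
    LinearMap.ker (exteriorPower.map p π) ≤
      Submodule.span A {x | ∃ (v : Fin p → M) (i : Fin p), π (v i) = 0 ∧ ιMulti A p v = x} := by
  classical
  set K := Submodule.span A {x | ∃ (v : Fin p → M) (i : Fin p), π (v i) = 0 ∧ ιMulti A p v = x}
  let f : M [⋀^Fin p]→ₗ[A] (↥(⋀[A]^p M) ⧸ K) := K.mkQ.compAlternatingMap (ιMulti A p)
  have hf : ∀ v v' : Fin p → M, (∀ i, π (v i) = π (v' i)) → f v = f v' := by
    intro v v' h
    suffices ∀ s : Finset (Fin p), f (s.piecewise v' v) = f v by
      have h1 := this Finset.univ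
      rw [Finset.piecewise_univ] at h1
      exact h1.symm
    intro s
    induction s using Finset.induction_on with
    | empty => rw [Finset.piecewise_empty]
    | insert i s his ih =>
      rw [Finset.piecewise_insert, ← ih, ← sub_eq_zero]
      conv_lhs => arg 2; rw [← Function.update_eq_self i (s.piecewise v' v)]
      rw [← AlternatingMap.map_update_sub]
      refine (Submodule.Quotient.mk_eq_zero K).2 (Submodule.subset_span ⟨_, i, ?_, rfl⟩)
      rw [Function.update_self, map_sub, Finset.piecewise_eq_of_notMem _ _ _ his, h i, sub_self]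
  let s := Function.surjInv hπ
  have hs : ∀ x, π (s x) = x := Function.surjInv_eq hπ
  let g : N [⋀^Fin p]→ₗ[A] (↥(⋀[A]^p M) ⧸ K) :=
    { toFun := fun w => f (s ∘ w)
      map_update_add' := fun {dec} w i x y => by
        rw [Subsingleton.elim dec inferInstance]
        simp only [Function.comp_update]
        rw [← f.map_update_add]
        exact hf _ _ fun j => by
          by_cases hj : j = i
          · subst hj; simp [hs]
          · simp [hj]
      map_update_smul' := fun {dec} w i c x => by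
        rw [Subsingleton.elim dec inferInstance]
        simp only [Function.comp_update]
        rw [← f.map_update_smul]
        exact hf _ _ fun j => by
          by_cases hj : j = i
          · subst hj; simp [hs]
          · simp [hj]
      map_eq_zero_of_eq' := fun w i j h hij => f.map_eq_zero_of_eq (s ∘ w) (congrArg s h) hij }
  have hg : (alternatingMapLinearEquiv g).comp (exteriorPower.map p π) = K.mkQ := by
    refine linearMap_ext (AlternatingMap.ext fun v => ?_)
    simp only [LinearMap.compAlternatingMap_apply, LinearMap.comp_apply, map_apply_ιMulti,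
      alternatingMapLinearEquiv_apply_ιMulti]
    exact hf _ _ fun i => hs _
  intro x hx
  rw [← Submodule.Quotient.mk_eq_zero K, ← Submodule.mkQ_apply, ← hg, LinearMap.comp_apply,
    LinearMap.mem_ker.1 hx, map_zero]

end Kernel

section Quotient

variable {R A Ω' : Type u} [CommRing R] [CommRing A] [Algebra R A]
  [AddCommGroup Ω'] [Module A Ω'] [Module R Ω'] [IsScalarTower R A Ω']

local notation "δ" => KaehlerDifferential.D R A

theorem map_d_eq_zero (π : Ω[A⁄R] →ₗ[A] Ω') (hπ : Function.Surjective π)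
    (dA : ∀ p : ℕ, ↥(⋀[A]^p (Ω[A⁄R])) →ₗ[R] ↥(⋀[A]^(p + 1) (Ω[A⁄R])))
    (hdA : DeRham.IsDiff δ dA)
    (hker : LinearMap.ker π ≤ Submodule.span A {ω : Ω[A⁄R] | π ω = 0 ∧
      exteriorPower.map 2 π (dA 1 ((exteriorPower.oneEquiv A (Ω[A⁄R])).symm ω)) = 0})
    (p : ℕ) (x : ↥(⋀[A]^p (Ω[A⁄R]))) (hx : exteriorPower.map p π x = 0) :
    exteriorPower.map (p + 1) π (dA p x) = 0 := by
  classical
  let T : Submodule A ↥(⋀[A]^p (Ω[A⁄R])) :=
    { carrier := {x | ∀ c : A, exteriorPower.map (p + 1) π (dA p (c • x)) = 0}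
      add_mem' := fun {a b} ha hb c => by rw [smul_add, map_add, map_add, ha c, hb c, add_zero]
      zero_mem' := fun c => by rw [smul_zero, map_zero, map_zero]
      smul_mem' := fun a y hy c => by rw [smul_smul]; exact hy _ }
  suffices h : x ∈ T by simpa using h 1
  refine Submodule.span_le.2 ?_ (ker_map_le π hπ p (LinearMap.mem_ker.2 hx))
  rintro _ ⟨v, i, hv, rfl⟩
  obtain ⟨q, rfl⟩ : ∃ q, p = q + 1 := ⟨p - 1, by have := i.2; omega⟩
  -- bring the kernel factor to the front
  suffices h : ∀ (ω : Ω[A⁄R]) (rest : Fin q → Ω[A⁄R]), π ω = 0 → ιMulti A (q + 1) (Fin.cons ω rest) ∈ T by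
    have h1 := h (v i) (Fin.tail (v ∘ Equiv.swap 0 i)) hv
    have e : (Fin.cons (v i) (Fin.tail (v ∘ Equiv.swap 0 i)) : Fin (q + 1) → Ω[A⁄R]) = v ∘ Equiv.swap 0 i := by
      conv_rhs => rw [← Fin.cons_self_tail (v ∘ Equiv.swap 0 i)]
      simp
    rw [e, AlternatingMap.map_perm] at h1
    rcases Int.units_eq_one_or (Equiv.Perm.sign (Equiv.swap 0 i)) with hs | hs <;> rw [hs] at h1 <;>
      simpa using h1
  intro ω rest hω
  let L : Ω[A⁄R] → (↥(⋀[A]^q (Ω[A⁄R])) →ₗ[A] ↥(⋀[A]^(q + 1) (Ω[A⁄R]))) := fun ω =>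
    alternatingMapLinearEquiv ((ιMulti A (q + 1) (M := Ω[A⁄R])).curryLeft ω)
  have hL : ∀ ω r, L ω (ιMulti A q r) = ιMulti A (q + 1) (Fin.cons ω r) := fun ω r =>
    alternatingMapLinearEquiv_apply_ιMulti _ _
  suffices h : ∀ y, L ω y ∈ T by rw [← hL]; exact h _
  intro y
  refine gen_induction (P := fun y => L ω y ∈ T) (by rw [map_zero]; exact zero_mem _)
    (fun a b ha hb => by rw [map_add]; exact add_mem ha hb) (fun b₀ b => ?_) y
  rw [DeRham.gen, map_smul, hL]
  refine T.smul_mem _ ?_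
  clear hL L y
  have hω' := hker (LinearMap.mem_ker.2 hω)
  clear hω
  induction hω' using Submodule.span_induction with
  | zero =>
    rw [show ιMulti A (q + 1) (Fin.cons (0 : Ω[A⁄R]) fun i => δ (b i)) = 0 from AlternatingMap.map_coord_zero _ 0 rfl]
    exact zero_mem _
  | add u w hu hw hu' hw' =>
    have e : ιMulti A (q + 1) (Fin.cons (u + w) fun i => δ (b i)) =
        ιMulti A (q + 1) (Fin.cons u fun i => δ (b i)) + ιMulti A (q + 1) (Fin.cons w fun i => δ (b i)) :=
      MultilinearMap.cons_add (ιMulti A (q + 1)).toMultilinearMap _ u w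
    rw [e]
    exact add_mem hu' hw'
  | smul a u hu hu' =>
    have e : ιMulti A (q + 1) (Fin.cons (a • u) fun i => δ (b i)) = a • ιMulti A (q + 1) (Fin.cons u fun i => δ (b i)) :=
      MultilinearMap.cons_smul (ιMulti A (q + 1)).toMultilinearMap _ a u
    rw [e]
    exact T.smul_mem a hu'
  | mem ω hG =>
    obtain ⟨hπω, hdω⟩ := hG
    obtain ⟨l, hl⟩ := Finsupp.mem_span_range_iff_exists_finsupp.1
      (show ω ∈ Submodule.span A (Set.range δ) by rw [KaehlerDifferential.span_range_derivation]; trivial)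
    rw [Finsupp.sum] at hl
    intro c
    have e1 : c • ιMulti A (q + 1) (Fin.cons ω fun i => δ (b i)) =
        ∑ e ∈ l.support, DeRham.gen δ (q + 1) (c * l e) (Fin.cons e b) := by
      let Lr : Ω[A⁄R] →ₗ[A] ↥(⋀[A]^(q + 1) (Ω[A⁄R])) :=
        { toFun := fun u => ιMulti A (q + 1) (Fin.cons u fun i => δ (b i))
          map_add' := fun u w => MultilinearMap.cons_add (ιMulti A (q + 1)).toMultilinearMap _ u w
          map_smul' := fun a u => MultilinearMap.cons_smul (ιMulti A (q + 1)).toMultilinearMap _ a u }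
      rw [show ιMulti A (q + 1) (Fin.cons ω fun i => δ (b i)) = Lr ω from rfl, ← hl, map_sum, Finset.smul_sum]
      refine Finset.sum_congr rfl fun e _ => ?_
      rw [map_smul, smul_smul, DeRham.gen]
      show (c * l e) • ιMulti A (q + 1) _ = _
      congr 1
      exact congrArg (ιMulti A (q + 1)) (funext fun i => Fin.cases (by simp) (fun j => by simp) i)
    have e2 : dA 1 ((exteriorPower.oneEquiv A (Ω[A⁄R])).symm ω) =
        ∑ e ∈ l.support, ιMulti A 2 (Fin.cons (δ (l e)) (fun _ : Fin 1 => δ e)) := by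
      have e3 : (exteriorPower.oneEquiv A (Ω[A⁄R])).symm ω = ∑ e ∈ l.support, DeRham.gen δ 1 (l e) (fun _ => e) := by
        rw [LinearEquiv.symm_apply_eq, map_sum, ← hl]
        refine Finset.sum_congr rfl fun e _ => ?_
        rw [DeRham.gen, map_smul, oneEquiv_ιMulti]
      rw [e3, map_sum]
      exact Finset.sum_congr rfl fun e _ => hdA.1 1 _ _
    rw [e2, map_sum] at hdω
    rw [e1, map_sum, map_sum]
    have hrule : ∀ e, dA (q + 1) (DeRham.gen δ (q + 1) (c * l e) (Fin.cons e b)) =
        ιMulti A (q + 2) (Fin.cons (δ (c * l e)) (fun i => δ ((Fin.cons e b : Fin (q + 1) → A) i))) :=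
      fun e => hdA.1 _ _ _
    simp only [hrule, map_apply_ιMulti] at hdω ⊢
    apply Subtype.ext
    have hdω' := congrArg Subtype.val hdω
    rw [AddSubmonoidClass.coe_finsetSum, ZeroMemClass.coe_zero] at hdω' ⊢
    simp only [ιMulti_apply_coe, ExteriorAlgebra.ιMulti_succ_apply, ExteriorAlgebra.ιMulti_zero_apply, mul_one,
      Matrix.vecTail, Function.comp_def, Fin.cons_zero, Fin.cons_succ] at hdω' ⊢
    simp only [Derivation.leibniz, map_add, map_smul, add_mul, smul_mul_assoc, Finset.sum_add_distrib,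
      ← mul_assoc, ← Finset.smul_sum, ← Finset.sum_mul, hdω', zero_mul, smul_zero, zero_add]
    have hι : ∑ e ∈ l.support, l e • ExteriorAlgebra.ι A (π (δ e)) = 0 := by
      simp only [← map_smul, ← map_sum]
      rw [hl, hπω, map_zero]
    rw [Finset.sum_congr rfl (g := fun x => ExteriorAlgebra.ι A (π (δ c)) * (l x • ExteriorAlgebra.ι A (π (δ x))) *
        ExteriorAlgebra.ιMulti A q (fun i => π (δ (b i)))) (fun x _ => by rw [mul_smul_comm, smul_mul_assoc]),
      ← Finset.sum_mul, ← Finset.mul_sum, hι, mul_zero, zero_mul]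

theorem exists_isDiff_quotient (π : Ω[A⁄R] →ₗ[A] Ω') (hπ : Function.Surjective π)
    (dA : ∀ p : ℕ, ↥(⋀[A]^p (Ω[A⁄R])) →ₗ[R] ↥(⋀[A]^(p + 1) (Ω[A⁄R])))
    (hdA : DeRham.IsDiff δ dA)
    (hker : LinearMap.ker π ≤ Submodule.span A {ω : Ω[A⁄R] | π ω = 0 ∧
      exteriorPower.map 2 π (dA 1 ((exteriorPower.oneEquiv A (Ω[A⁄R])).symm ω)) = 0}) :
    ∃ d : ∀ p : ℕ, ↥(⋀[A]^p Ω') →ₗ[R] ↥(⋀[A]^(p + 1) Ω'),
      DeRham.IsDiff (π.compDer δ) d ∧
        ∀ (p : ℕ) (x : ↥(⋀[A]^p (Ω[A⁄R]))),
          d p (exteriorPower.map p π x) = exteriorPower.map (p + 1) π (dA p x) := by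
  let F : ∀ p, ↥(⋀[A]^p (Ω[A⁄R])) →ₗ[R] ↥(⋀[A]^p Ω') := fun p => (exteriorPower.map p π).restrictScalars R
  have hF : ∀ p, Function.Surjective (F p) := fun p => exteriorPower.map_surjective hπ
  have hle : ∀ p, LinearMap.ker (F p) ≤ LinearMap.ker ((F (p + 1)).comp (dA p)) := fun p x hx =>
    LinearMap.mem_ker.2 (map_d_eq_zero π hπ dA hdA hker p x (LinearMap.mem_ker.1 hx))
  let d : ∀ p : ℕ, ↥(⋀[A]^p Ω') →ₗ[R] ↥(⋀[A]^(p + 1) Ω') := fun p =>
    ((LinearMap.ker (F p)).liftQ ((F (p + 1)).comp (dA p)) (hle p)).comp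
      ((F p).quotKerEquivOfSurjective (hF p)).symm.toLinearMap
  have hd : ∀ p x, d p (exteriorPower.map p π x) = exteriorPower.map (p + 1) π (dA p x) := fun p x => by
    show Submodule.liftQ _ ((F (p + 1)).comp (dA p)) (hle p) (((F p).quotKerEquivOfSurjective (hF p)).symm (F p x)) = _
    rw [← LinearMap.quotKerEquivOfSurjective_apply_mk (F p) (hF p) x, LinearEquiv.symm_apply_apply]
    rfl
  refine ⟨d, ⟨fun p b₀ b => ?_, fun p => LinearMap.ext fun y => ?_⟩, hd⟩
  · have e : DeRham.gen (π.compDer δ) p b₀ b = exteriorPower.map p π (DeRham.gen δ p b₀ b) := by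
      rw [DeRham.gen, DeRham.gen, map_smul, map_apply_ιMulti]
      rfl
    rw [e, hd, hdA.1, map_apply_ιMulti]
    congr 1
    funext i
    cases i using Fin.cases <;> rfl
  · obtain ⟨x, rfl⟩ := hF p y
    show d (p + 1) (d p (exteriorPower.map p π x)) = 0
    rw [hd, hd]
    exact (congrArg (exteriorPower.map (p + 2) π) (LinearMap.congr_fun (hdA.2 p) x)).trans (map_zero _)

end Quotient

end Groth.Agent.DeRhamLib
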